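import Cfsg.Agent.Lib.H17.J2P280.Tables

set_option autoImplicit false
set_option maxRecDepth 100000

/-! # Orbit checks, J2P280 (generated) -/

namespace Cfsg.Agent.Lib.H17.J2P280

open Cfsg.Spor Cfsg.Agent.Lib.H17.CosetCert Cfsg.Agent.Lib.H17.CoxGlue Cfsg.Agent.Lib.H17.J2PGlue

/-- ranks inside the orbits -/
def hr : ℕ := 0x35218ca5e40208b884429f0fc572b134fe783b9d8ea533d9d102732597cd071419bcdc723691488701f8f8d8693419c7666328e484633d190f26331138c8613017c783d2e978ba5c241f4b65a1b0d46631180bc5c592a950a656168b0a4511514064342a1ac9e4e26904aa4c3092c944c251247448238a04e26128908c4511888424421908406a209003e1e1f8f83a3d2010cb03c1d944a43a348e4b6491c0dc56361a86c34191a0602e57198c862160a8c05e141704c24231693ca02c15988546b1496850380e0884e11080981e0e128901a230608816211098040670f9983c470e8a4401c0502436080d01c32060c07c2e590b1602a1e0a0dc261d0901422040800c1e1c0d8388c0d0d06418180b82c040a008242c1504050260709018000508840080f0700c1a020602c1401048200e00030140803010040000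

/-- orbit 0: base point 1, size 36 -/
def omask0 : ℕ := 0x1000400100200411018d8368daeefe

theorem obase0 : tb omask0 1 = true := by
  decide +kernel

theorem ocount0 : countBits omask0 280 0 = 36 := by
  decide +kernel

theorem oclosed0_0 : checkClosedG L omask0 sgT 0 280 = true := by
  decide +kernel

theorem oconn0_0 : checkOrbConnG L omask0 hr 1 sgT 0 280 = true := by
  decide +kernel

/-- orbit 1: base point 25, size 108 -/
def omask1 : ℕ := 0xb21c10e06c2706388fe0cb86b27ce232c6b2761966559b2a554d514454202802000000

theorem obase1 : tb omask1 25 = true := by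
  decide +kernel

theorem ocount1 : countBits omask1 280 0 = 108 := by
  decide +kernel

theorem oclosed1_0 : checkClosedG L omask1 sgT 0 280 = true := by
  decide +kernel

theorem oconn1_0 : checkOrbConnG L omask1 hr 25 sgT 0 280 = true := by
  decide +kernel

/-- orbit 2: base point 8, size 135 -/
def omask2 : ℕ := 0x4de3ef1f93d8f9c7701f34794d831dcd394d89e689aa24d4aa92aaaaaa525495251100

theorem obase2 : tb omask2 8 = true := by
  decide +kernel

theorem ocount2 : countBits omask2 280 0 = 135 := by
  decide +kernel

theorem oclosed2_0 : checkClosedG L omask2 sgT 0 280 = true := by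
  decide +kernel

theorem oconn2_0 : checkOrbConnG L omask2 hr 8 sgT 0 280 = true := by
  decide +kernel

end Cfsg.Agent.Lib.H17.J2P280
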