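import Cfsg.Agent.Lib.H17.J2P280.Lower
import Cfsg.Agent.Lib.H17.J2P280.OrbChk

set_option autoImplicit false
set_option maxRecDepth 100000

/-! # Orbits of the subgroup on its cosets, J2P280 (generated) -/

namespace Cfsg.Agent.Lib.H17.J2P280

open Cfsg.Spor Cfsg.Agent.Lib.H17.CosetCert Cfsg.Agent.Lib.H17.CoxGlue Cfsg.Agent.Lib.H17.J2PGlue

theorem oclosedL0 : ∀ i < 280, tb omask0 i = true → ∀ ts ∈ sgT, tb omask0 (applyTG L ts i) = true := by
  intro i hi
  have hc : i / 500 < 1 := by omega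
  interval_cases hq : i / 500
  · exact checkClosedG_sound L _ _ _ _ oclosed0_0 i (by omega) (by omega)

theorem oclosed0 : ∀ i < 280, tb omask0 i = true → ∀ ts ∈ sgT, tb omask0 (applyT 9 512 ts i) = true := by
  intro i hi hb ts hts
  have := oclosedL0 i hi hb ts hts
  rw [applyL_eq] at this
  exact this

theorem oconnL0 : ∀ i < 280, tb omask0 i = true → i ≠ 1 → ∃ ts ∈ sgT, tb omask0 (applyTG L ts i) = true ∧
    L hr (applyTG L ts i) < L hr i := by
  intro i hi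
  have hc : i / 500 < 1 := by omega
  interval_cases hq : i / 500
  · exact checkOrbConnG_sound L _ _ _ _ _ _ oconn0_0 i (by omega) (by omega)

theorem oconn0 : ∀ i < 280, tb omask0 i = true → i ≠ 1 → ∃ ts ∈ sgT, tb omask0 (applyT 9 512 ts i) = true ∧
    lk 9 512 hr (applyT 9 512 ts i) < lk 9 512 hr i := by
  intro i hi hb hp
  obtain ⟨ts, hts, h1, h2⟩ := oconnL0 i hi hb hp
  simp only [L_eq, applyL_eq] at h1 h2
  exact ⟨ts, hts, h1, h2⟩

theorem oclosedL1 : ∀ i < 280, tb omask1 i = true → ∀ ts ∈ sgT, tb omask1 (applyTG L ts i) = true := by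
  intro i hi
  have hc : i / 500 < 1 := by omega
  interval_cases hq : i / 500
  · exact checkClosedG_sound L _ _ _ _ oclosed1_0 i (by omega) (by omega)

theorem oclosed1 : ∀ i < 280, tb omask1 i = true → ∀ ts ∈ sgT, tb omask1 (applyT 9 512 ts i) = true := by
  intro i hi hb ts hts
  have := oclosedL1 i hi hb ts hts
  rw [applyL_eq] at this
  exact this

theorem oconnL1 : ∀ i < 280, tb omask1 i = true → i ≠ 25 → ∃ ts ∈ sgT, tb omask1 (applyTG L ts i) = true ∧
    L hr (applyTG L ts i) < L hr i := by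
  intro i hi
  have hc : i / 500 < 1 := by omega
  interval_cases hq : i / 500
  · exact checkOrbConnG_sound L _ _ _ _ _ _ oconn1_0 i (by omega) (by omega)

theorem oconn1 : ∀ i < 280, tb omask1 i = true → i ≠ 25 → ∃ ts ∈ sgT, tb omask1 (applyT 9 512 ts i) = true ∧
    lk 9 512 hr (applyT 9 512 ts i) < lk 9 512 hr i := by
  intro i hi hb hp
  obtain ⟨ts, hts, h1, h2⟩ := oconnL1 i hi hb hp
  simp only [L_eq, applyL_eq] at h1 h2
  exact ⟨ts, hts, h1, h2⟩

theorem oclosedL2 : ∀ i < 280, tb omask2 i = true → ∀ ts ∈ sgT, tb omask2 (applyTG L ts i) = true := by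
  intro i hi
  have hc : i / 500 < 1 := by omega
  interval_cases hq : i / 500
  · exact checkClosedG_sound L _ _ _ _ oclosed2_0 i (by omega) (by omega)

theorem oclosed2 : ∀ i < 280, tb omask2 i = true → ∀ ts ∈ sgT, tb omask2 (applyT 9 512 ts i) = true := by
  intro i hi hb ts hts
  have := oclosedL2 i hi hb ts hts
  rw [applyL_eq] at this
  exact this

theorem oconnL2 : ∀ i < 280, tb omask2 i = true → i ≠ 8 → ∃ ts ∈ sgT, tb omask2 (applyTG L ts i) = true ∧
    L hr (applyTG L ts i) < L hr i := by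
  intro i hi
  have hc : i / 500 < 1 := by omega
  interval_cases hq : i / 500
  · exact checkOrbConnG_sound L _ _ _ _ _ _ oconn2_0 i (by omega) (by omega)

theorem oconn2 : ∀ i < 280, tb omask2 i = true → i ≠ 8 → ∃ ts ∈ sgT, tb omask2 (applyT 9 512 ts i) = true ∧
    lk 9 512 hr (applyT 9 512 ts i) < lk 9 512 hr i := by
  intro i hi hb hp
  obtain ⟨ts, hts, h1, h2⟩ := oconnL2 i hi hb hp
  simp only [L_eq, applyL_eq] at h1 h2
  exact ⟨ts, hts, h1, h2⟩

/-- the images of the subgroup generators -/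
abbrev S' : Set G := PresentedGroup.mk rels '' S

theorem H_eq : H = Subgroup.closure S' := MonoidHom.map_closure _ _

theorem sgT_eq : sgT = [(sgL0.map Prod.fst).map tabOf, (sgL1.map Prod.fst).map tabOf, (sgL2.map Prod.fst).map tabOf, (sgL3.map Prod.fst).map tabOf] := by
  rfl

theorem good_sgT : ∀ ts ∈ sgT, ∀ t ∈ ts, Good 9 512 280 t := by
  intro ts hts
  rw [sgT_eq] at hts
  simp only [List.mem_cons, List.not_mem_nil, or_false] at hts
  rcases hts with rfl | rfl | rfl | rfl <;> exact good_of_letters _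

theorem S'_words : ∀ s ∈ S', ∃ ts ∈ sgT, φ s = (ts.map (σ 9 512 280)).prod := by
  rintro _ ⟨s, hs, rfl⟩
  simp only [S, Set.mem_insert_iff, Set.mem_singleton_iff] at hs
  rcases hs with rfl | rfl | rfl | rfl
  · exact ⟨sgT0, by simp [sgT], by rw [sg0_eq, φ_mk]; rfl⟩
  · exact ⟨sgT1, by simp [sgT], by rw [sg1_eq, φ_mk]; rfl⟩
  · exact ⟨sgT2, by simp [sgT], by rw [sg2_eq, φ_mk]; rfl⟩
  · exact ⟨sgT3, by simp [sgT], by rw [sg3_eq, φ_mk]; rfl⟩

theorem words_S' : ∀ ts ∈ sgT, ∃ s ∈ S', φ s = (ts.map (σ 9 512 280)).prod := by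
  intro ts hts
  obtain ⟨k, hk, rfl⟩ := List.getElem_of_mem hts
  have hk' : k < 4 := hk
  interval_cases k
  · exact ⟨_, ⟨_, sg0_mem, rfl⟩, by rw [sg0_eq, φ_mk]; rfl⟩
  · exact ⟨_, ⟨_, sg1_mem, rfl⟩, by rw [sg1_eq, φ_mk]; rfl⟩
  · exact ⟨_, ⟨_, sg2_mem, rfl⟩, by rw [sg2_eq, φ_mk]; rfl⟩
  · exact ⟨_, ⟨_, sg3_mem, rfl⟩, by rw [sg3_eq, φ_mk]; rfl⟩

/-- orbit 0 -/
theorem orbit0 : ∃ q : G ⧸ H, ptOf H φ z φ_H q = ⟨1, by decide⟩ ∧
    ptOf H φ z φ_H '' (MulAction.orbit H q) = {i : Fin 280 | tb omask0 i = true} ∧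
    (MulAction.orbit H q).ncard = 36 := by
  obtain ⟨g, hg⟩ := φ_trans ⟨1, by decide⟩
  refine ⟨(g : G ⧸ H), hg, ?_⟩
  have himg : ptOf H φ z φ_H '' (MulAction.orbit H (g : G ⧸ H)) =
      {i : Fin 280 | tb omask0 i = true} := by
    rw [ptOf_image_orbit, ptOf_mk, hg, H_eq]
    exact orbit_eq_mask' 9 512 280 φ S' omask0 hr ⟨1, by decide⟩ sgT good_sgT S'_words words_S'
      obase0 oclosed0 oconn0
  refine ⟨himg, ?_⟩
  rw [← Set.ncard_image_of_injective _ (ptOf_injective H φ z φ_H index_and_stab.2), himg,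
    ncard_mask, ocount0]

/-- orbit 1 -/
theorem orbit1 : ∃ q : G ⧸ H, ptOf H φ z φ_H q = ⟨25, by decide⟩ ∧
    ptOf H φ z φ_H '' (MulAction.orbit H q) = {i : Fin 280 | tb omask1 i = true} ∧
    (MulAction.orbit H q).ncard = 108 := by
  obtain ⟨g, hg⟩ := φ_trans ⟨25, by decide⟩
  refine ⟨(g : G ⧸ H), hg, ?_⟩
  have himg : ptOf H φ z φ_H '' (MulAction.orbit H (g : G ⧸ H)) =
      {i : Fin 280 | tb omask1 i = true} := by
    rw [ptOf_image_orbit, ptOf_mk, hg, H_eq]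
    exact orbit_eq_mask' 9 512 280 φ S' omask1 hr ⟨25, by decide⟩ sgT good_sgT S'_words words_S'
      obase1 oclosed1 oconn1
  refine ⟨himg, ?_⟩
  rw [← Set.ncard_image_of_injective _ (ptOf_injective H φ z φ_H index_and_stab.2), himg,
    ncard_mask, ocount1]

/-- orbit 2 -/
theorem orbit2 : ∃ q : G ⧸ H, ptOf H φ z φ_H q = ⟨8, by decide⟩ ∧
    ptOf H φ z φ_H '' (MulAction.orbit H q) = {i : Fin 280 | tb omask2 i = true} ∧
    (MulAction.orbit H q).ncard = 135 := by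
  obtain ⟨g, hg⟩ := φ_trans ⟨8, by decide⟩
  refine ⟨(g : G ⧸ H), hg, ?_⟩
  have himg : ptOf H φ z φ_H '' (MulAction.orbit H (g : G ⧸ H)) =
      {i : Fin 280 | tb omask2 i = true} := by
    rw [ptOf_image_orbit, ptOf_mk, hg, H_eq]
    exact orbit_eq_mask' 9 512 280 φ S' omask2 hr ⟨8, by decide⟩ sgT good_sgT S'_words words_S'
      obase2 oclosed2 oconn2
  refine ⟨himg, ?_⟩
  rw [← Set.ncard_image_of_injective _ (ptOf_injective H φ z φ_H index_and_stab.2), himg,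
    ncard_mask, ocount2]

end Cfsg.Agent.Lib.H17.J2P280
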