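import Cfsg.Agent.Lib.H17.J2P280.Lower
import Cfsg.Agent.Lib.H17.Sgs

set_option autoImplicit false
set_option maxRecDepth 100000

/-! # Lower bound for the order from a chain of stabilisers, J2P280 (generated) -/

namespace Cfsg.Agent.Lib.H17.J2P280

open Cfsg.Spor Cfsg.Agent.Lib.H17.CosetCert Cfsg.Agent.Lib.H17.CoxGlue Cfsg.Agent.Lib.H17.J2PGlue Cfsg.Agent.Lib.H17.Sgs

/-- the image of the permutation representation -/
noncomputable abbrev P : Subgroup (Equiv.Perm (Fin 280)) := φ.range

theorem tabs_rep : ∀ t ∈ tabs, ∃ g : P, P.subtype g = σ 9 512 280 t := by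
  intro t ht
  obtain ⟨k, hk, rfl⟩ := List.getElem_of_mem ht
  have hk' : k < 5 := hk
  interval_cases k
  · exact ⟨⟨φ (PresentedGroup.of .a), ⟨_, rfl⟩⟩, φ_of _⟩
  · exact ⟨⟨φ (PresentedGroup.of .b), ⟨_, rfl⟩⟩, φ_of _⟩
  · exact ⟨⟨φ (PresentedGroup.of .c), ⟨_, rfl⟩⟩, φ_of _⟩
  · exact ⟨⟨φ (PresentedGroup.of .d), ⟨_, rfl⟩⟩, φ_of _⟩
  · exact ⟨⟨φ (PresentedGroup.of .e), ⟨_, rfl⟩⟩, φ_of _⟩

/-! ## level 1: base point 0, orbit size 280, 5 words, total length 5 -/

/-- the words of level 1 -/
def sw1 : List (List ℕ) := [[tab0], [tab1], [tab2], [tab3], [tab4]]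

/-- the orbit of level 1 -/
def smask1 : ℕ := 0xffffffffffffffffffffffffffffffffffffffffffffffffffffffffffffffffffffff

/-- the ranks of level 1 -/
def srank1 : ℕ := 0x8bc5a2b1489c4a231087c3a1b0c85c2a130883c1a0b0481c0a03007fbf9fafc7dbe9f2f87bbd9eaf479bc9e2f077bb9daec75ba9d2e873b99cae471b89c2e06fb79badc6db69b2d86bb59aad469b49a2d067b399acc65b2992c863b198ac461b0982c05faf97abc5dae972b85bad96ab459ac962b057ab95aac55aa952a853a994aa451a8942a04fa793a9c4da6932984ba592a9449a49229047a391a8c45a29128843a190a8441a0902803f9f8fa7c3d9e8f2783b9d8ea74399c8e270379b8da6c359a8d26833998ca6431988c2602f978ba5c2d968b2582b958aa5429948a250279389a4c259289248239188a442190882401f8f87a3c1d8e872381b8d86a34198c86230178b85a2c158a85228138984a241188842200f8783a1c0d86832180b8582a14098482210078381a0c058281208038180a04018080200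

theorem sletters1 : ∀ ts ∈ sw1, ∀ t ∈ ts, t ∈ tabs := by
  decide +kernel

theorem sfix1 : ∀ ts ∈ sw1, ∀ c ∈ ([] : List ℕ), applyT 9 512 ts c = c := by
  decide +kernel

theorem sbase1 : tb smask1 0 = true := by
  decide +kernel

theorem sconn1 : checkOrbConn 9 512 smask1 srank1 0 sw1 280 = true := by
  decide +kernel

theorem scount1 : countBits smask1 280 0 = 280 := by
  decide +kernel

theorem slevel1 : 280 * Nat.card (stabL P.subtype ([0] : List ℕ)) ≤ Nat.card (stabL P.subtype ([] : List ℕ)) :=
  step 9 512 P.subtype tabs good_tabs tabs_rep [] 0 (by decide) smask1 srank1 sw1 280 sletters1 sfix1 sbase1 sconn1 scount1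

/-! ## level 2: base point 3, orbit size 36, 3 words, total length 3 -/

/-- the words of level 2 -/
def sw2 : List (List ℕ) := [[tab1], [tab2], [tab3]]

/-- the orbit of level 2 -/
def smask2 : ℕ := 0x1000400100200411018d8368daeefe

/-- the ranks of level 2 -/
def srank2 : ℕ := 0x220000000000000000000000000000008c000000000000000000000000000002000000000000000000000000420000000000000000000000078000000000001400000001f00000000000000001b0d000000008858001d0e00000000000012180004c1a000c80000000402c00100b8000e00050382a000303024000203c0601000080a00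

theorem sletters2 : ∀ ts ∈ sw2, ∀ t ∈ ts, t ∈ tabs := by
  decide +kernel

theorem sfix2 : ∀ ts ∈ sw2, ∀ c ∈ ([0] : List ℕ), applyT 9 512 ts c = c := by
  decide +kernel

theorem sbase2 : tb smask2 3 = true := by
  decide +kernel

theorem sconn2 : checkOrbConn 9 512 smask2 srank2 3 sw2 280 = true := by
  decide +kernel

theorem scount2 : countBits smask2 280 0 = 36 := by
  decide +kernel

theorem slevel2 : 36 * Nat.card (stabL P.subtype ([3, 0] : List ℕ)) ≤ Nat.card (stabL P.subtype ([0] : List ℕ)) :=
  step 9 512 P.subtype tabs good_tabs tabs_rep [0] 3 (by decide) smask2 srank2 sw2 36 sletters2 sfix2 sbase2 sconn2 scount2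

/-! ## level 3: base point 4, orbit size 15, 3 words, total length 11 -/

/-- the words of level 3 -/
def sw3 : List (List ℕ) := [[tab1, tab2, tab1], [tab3, tab2, tab3], [tab2, tab3, tab2, tab3, tab2]]

/-- the orbit of level 3 -/
def smask3 : ℕ := 0x10020001001090240822254

/-- the ranks of level 3 -/
def srank3 : ℕ := 0xc000000000000000000000001c0000000000000000000000000000000000000700000000000000000000000000900000000003000000b000000000000000800000280000000000000018000000000000400000001000000001a00000140000000040000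

theorem sletters3 : ∀ ts ∈ sw3, ∀ t ∈ ts, t ∈ tabs := by
  decide +kernel

theorem sfix3 : ∀ ts ∈ sw3, ∀ c ∈ ([3, 0] : List ℕ), applyT 9 512 ts c = c := by
  decide +kernel

theorem sbase3 : tb smask3 4 = true := by
  decide +kernel

theorem sconn3 : checkOrbConn 9 512 smask3 srank3 4 sw3 280 = true := by
  decide +kernel

theorem scount3 : countBits smask3 280 0 = 15 := by
  decide +kernel

theorem slevel3 : 15 * Nat.card (stabL P.subtype ([4, 3, 0] : List ℕ)) ≤ Nat.card (stabL P.subtype ([3, 0] : List ℕ)) :=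
  step 9 512 P.subtype tabs good_tabs tabs_rep [3, 0] 4 (by decide) smask3 srank3 sw3 15 sletters3 sfix3 sbase3 sconn3 scount3

/-! ## level 4: base point 2, orbit size 4, 2 words, total length 20 -/

/-- the words of level 4 -/
def sw4 : List (List ℕ) := [[tab1, tab2, tab1, tab3, tab2, tab3, tab1, tab2, tab1], [tab1, tab2, tab1, tab2, tab3, tab2, tab3, tab2, tab1, tab2, tab1]]

/-- the orbit of level 4 -/
def smask4 : ℕ := 0x200802004

/-- the ranks of level 4 -/
def srank4 : ℕ := 0x200000000000000000000010000000000000000000000600000000000000000000000000000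

theorem sletters4 : ∀ ts ∈ sw4, ∀ t ∈ ts, t ∈ tabs := by
  decide +kernel

theorem sfix4 : ∀ ts ∈ sw4, ∀ c ∈ ([4, 3, 0] : List ℕ), applyT 9 512 ts c = c := by
  decide +kernel

theorem sbase4 : tb smask4 2 = true := by
  decide +kernel

theorem sconn4 : checkOrbConn 9 512 smask4 srank4 2 sw4 280 = true := by
  decide +kernel

theorem scount4 : countBits smask4 280 0 = 4 := by
  decide +kernel

theorem slevel4 : 4 * Nat.card (stabL P.subtype ([2, 4, 3, 0] : List ℕ)) ≤ Nat.card (stabL P.subtype ([4, 3, 0] : List ℕ)) :=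
  step 9 512 P.subtype tabs good_tabs tabs_rep [4, 3, 0] 2 (by decide) smask4 srank4 sw4 4 sletters4 sfix4 sbase4 sconn4 scount4

/-- the lower bound for the order, with the stabiliser of the base -/
theorem card_ge_stab : 604800 * Nat.card (stabL P.subtype ([2, 4, 3, 0] : List ℕ)) ≤ Nat.card P := by
  have h4 := slevel4
  have h3 := slevel3
  have h2 := slevel2
  have h1 := slevel1
  rw [card_stabL_nil] at h1
  have e4 := h4
  have e3 := le_trans (Nat.mul_le_mul_left 15 e4) h3
  have e2 := le_trans (Nat.mul_le_mul_left 36 e3) h2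
  have e1 := le_trans (Nat.mul_le_mul_left 280 e2) h1
  calc 604800 * Nat.card (stabL P.subtype ([2, 4, 3, 0] : List ℕ))
      = 280 * (36 * (15 * (4 * Nat.card (stabL P.subtype ([2, 4, 3, 0] : List ℕ))))) := by
        simp only [← Nat.mul_assoc]
    _ ≤ Nat.card P := e1

/-- the lower bound for the order -/
theorem card_ge : 604800 ≤ Nat.card P :=
  le_trans (Nat.le_mul_of_pos_right _ (one_le_card P.subtype _)) card_ge_stab

/-- the base -/
def sbase : List ℕ := [2, 4, 3, 0]

end Cfsg.Agent.Lib.H17.J2P280
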