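import Cfsg.Agent.Lib.H17.J2P280.Tables

set_option autoImplicit false
set_option maxRecDepth 100000

/-! # Table checks for J2P280, part 0 (generated) -/

namespace Cfsg.Agent.Lib.H17.J2P280

open Cfsg.Spor Cfsg.Agent.Lib.H17.CosetCert Cfsg.Agent.Lib.H17.CoxGlue Cfsg.Agent.Lib.H17.J2PGlue

theorem rngR0 : tabs.all (fun t => checkRangeG L t 280 0 280) = true := by
  decide +kernel

theorem relR0 : relT.all (fun ts => checkWordG L ts 0 280) = true := by
  decide +kernel

theorem connR0 : checkConnG L gr tabs 0 280 = true := by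
  decide +kernel

end Cfsg.Agent.Lib.H17.J2P280
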